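import Groth.Agent.PtDefo5.Smooth
import Groth.Agent.EllGrp5.AlgZero
import Groth.Agent.AbSchLib.ConnectedFibres

/-!
# Deformations of genus one curves: translations
-/

set_option autoImplicit false
set_option linter.style.haveILetI false
set_option linter.unusedSectionVars false
set_option backward.isDefEq.respectTransparency.types false

universe u

open CategoryTheory CategoryTheory.Limits MonoidalCategory CartesianMonoidalCategory AlgebraicGeometry
open scoped MonObj
open ArtFun ArtFun.Art Groth.Agent.Coherent Groth.Agent.AmpleLib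

namespace Groth.Agent.PtDefo5

variable {Λ k : Type u} [CommRing Λ] [Field k] [Algebra Λ k] {X : Scheme.{u}} {x : X ⟶ specPt k} {A : Art Λ k}
  (ξ : ArtFun.DefSch X x A)

theorem exists_fibre_iso (y : (spec A : Scheme.{u})) :
    ∃ (l : X ⟶ ξ.f.fiber y) (ρ : specPt k ⟶ Spec ((spec A).residueField y)), IsIso l ∧ IsIso ρ ∧
      l ≫ ξ.f.fiberToSpecResidueField y = x ≫ ρ := by
  haveI := isClosedImmersion_specRes (A := A)
  haveI : Subsingleton (spec A : Scheme.{u}) := inferInstanceAs (Subsingleton (PrimeSpectrum A))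
  obtain rfl : y = specRes A (IsLocalRing.closedPoint k) := Subsingleton.elim _ _
  let ρ : specPt k ⟶ Spec ((spec A).residueField (specRes A (IsLocalRing.closedPoint k))) :=
    Spec.map ((spec A).descResidueField (Scheme.stalkClosedPointTo (specRes A)))
  have hρ : ρ ≫ (spec A).fromSpecResidueField _ = specRes A :=
    Scheme.descResidueField_stalkClosedPointTo_fromSpecResidueField k (spec A) (specRes A)
  haveI : IsClosedImmersion ρ := by
    haveI : IsClosedImmersion (ρ ≫ (spec A).fromSpecResidueField _) := by rw [hρ]; infer_instance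
    exact IsClosedImmersion.of_comp ρ ((spec A).fromSpecResidueField _)
  haveI : Surjective ρ := ⟨fun z => ⟨default, Subsingleton.elim (α := PrimeSpectrum _) _ _⟩⟩
  haveI : IsIso ρ := isIso_of_isClosedImmersion_of_surjective ρ
  let l : X ⟶ ξ.f.fiber (specRes A (IsLocalRing.closedPoint k)) :=
    pullback.lift ξ.i (x ≫ ρ) (by rw [Category.assoc, hρ]; exact ξ.isPullback.w)
  have hsq : IsPullback l x (ξ.f.fiberToSpecResidueField _) ρ :=
    IsPullback.of_right (by
      rw [hρ, show l ≫ pullback.fst _ _ = ξ.i from pullback.lift_fst _ _ _]; exact ξ.isPullback)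
      (pullback.lift_snd _ _ _) (IsPullback.of_hasPullback _ _)
  exact ⟨l, ρ, hsq.isIso_fst_of_isIso, inferInstance, hsq.w⟩

variable [IsProper x] [Smooth x] [IsIntegral X]

theorem isProper_f : IsProper ξ.f := by
  haveI := isClosedImmersion_specRes (A := A)
  haveI := surjective_specRes (A := A)
  haveI : IsClosedImmersion ξ.i := MorphismProperty.of_isPullback (P := @IsClosedImmersion) ξ.isPullback.flip inferInstance
  haveI : Surjective ξ.i := MorphismProperty.of_isPullback (P := @Surjective) ξ.isPullback.flip inferInstance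
  haveI : IsLocallyNoetherian (spec A) := inferInstanceAs (IsLocallyNoetherian (Spec (CommRingCat.of A)))
  have hker : ξ.i.ker = (specRes A).ker.comap ξ.f := by
    conv_lhs => rw [← ξ.isPullback.isoPullback_hom_fst]
    rw [Scheme.Hom.ker_comp_of_isIso]
    exact Scheme.IdealSheafData.ker_fst_of_isClosedImmersion _ _
  exact FSchLib.isProper_of_thickening hker ξ.isPullback.w

theorem geometricallyConnected_f (σ : spec A ⟶ ξ.total) (hσ : σ ≫ ξ.f = 𝟙 _) : GeometricallyConnected ξ.f :=
  AbSchLib.geometricallyConnected_of_section ξ.f σ hσ fun y => by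
    obtain ⟨l, ρ, hl, -, -⟩ := exists_fibre_iso ξ y
    exact l.surjective.connectedSpace l.continuous

theorem dim_fibre (hdim : topologicalKrullDim X = 1) (y : (spec A : Scheme.{u})) :
    topologicalKrullDim ↥(ξ.f.fiber y) = 1 := by
  obtain ⟨l, ρ, hl, -, -⟩ := exists_fibre_iso ξ y
  rw [← hdim]
  exact le_antisymm (inv l).isEmbedding.isInducing.topologicalKrullDim_le
    l.isEmbedding.isInducing.topologicalKrullDim_le

theorem genusOne_f (hg : @Module.finrank k (Coh.HH X (Coh.structureModule X) 1) _ _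
    (Module.compHom _ (Coh.toGlobal x)) = 1) : EllGrp5.GenusOne ξ.f := fun y => by
  haveI := isProper_f ξ
  haveI : Subsingleton (spec A : Scheme.{u}) := inferInstanceAs (Subsingleton (PrimeSpectrum A))
  obtain rfl : y = specRes A (IsLocalRing.closedPoint k) := Subsingleton.elim _ _
  haveI : Coh.IsQCoh (Coh.structureModule ξ.total) := isQCoh_structureModule (X := ξ.total)
  obtain ⟨e⟩ := exists_pullStructureIso ξ.i
  rw [← CohBC.fiberRank_pullback ξ.isPullback (Coh.structureModule ξ.total) 1 (IsLocalRing.closedPoint k)]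
  refine (CohBC.finrank_HH_congr _ ((Scheme.Modules.pullback (x.fiberι (IsLocalRing.closedPoint k))).mapIso e) 1).trans ?_
  exact (EllGrp5.fiberRank_of_field x 1 _).trans hg

/-- Two sections through one point differ by an automorphism of the deformation. -/
theorem exists_translation (hdim : topologicalKrullDim X = 1) (hg : @Module.finrank k (Coh.HH X (Coh.structureModule X) 1) _ _
    (Module.compHom _ (Coh.toGlobal x)) = 1) (σ σ' : spec A ⟶ ξ.total) (hσ : σ ≫ ξ.f = 𝟙 _)
    (hσ' : σ' ≫ ξ.f = 𝟙 _) (h : specRes A ≫ σ = specRes A ≫ σ') :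
    ∃ t : ξ.total ≅ ξ.total, t.hom ≫ ξ.f = ξ.f ∧ ξ.i ≫ t.hom = ξ.i ∧ σ ≫ t.hom = σ' := by
  haveI := isProper_f ξ
  haveI := smooth_f ξ
  haveI := geometricallyConnected_f ξ σ hσ
  haveI := EllGrp5.smoothRD_of_fibre_dim ξ.f (dim_fibre ξ hdim)
  have hG := genusOne_f ξ hg
  letI := EllGrp5.grp σ hσ hG
  let E : Over (spec A) := Over.mk ξ.f
  let b : 𝟙_ (Over (spec A)) ⟶ E := Over.homMk σ' hσ'
  let sh : (𝟙_ (Over (spec A)) ⟶ E) → (E ⟶ E) := fun c => 𝟙 E * (toUnit E ≫ c)
  have hpre : ∀ {T : Over (spec A)} (P : T ⟶ E) (c : 𝟙_ (Over (spec A)) ⟶ E), P ≫ sh c = P * (toUnit T ≫ c) :=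
    fun P c => by
      rw [MonObj.comp_mul, Category.comp_id, ← Category.assoc, toUnit_unique (P ≫ toUnit E) (toUnit _)]
  have hinv : ∀ c d : 𝟙_ (Over (spec A)) ⟶ E, c * d = 1 → sh c ≫ sh d = 𝟙 E := fun c d hcd => by
    rw [hpre]
    show 𝟙 E * (toUnit E ≫ c) * (toUnit E ≫ d) = 𝟙 E
    rw [mul_assoc, ← MonObj.comp_mul, hcd, MonObj.comp_one, mul_one]
  let t : ξ.total ≅ ξ.total :=
    { hom := (sh b).left
      inv := (sh b⁻¹).left
      hom_inv_id := congrArg (fun z : E ⟶ E => z.left) (hinv b b⁻¹ (mul_inv_cancel b))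
      inv_hom_id := congrArg (fun z : E ⟶ E => z.left) (hinv b⁻¹ b (inv_mul_cancel b)) }
  have h1 : (1 : 𝟙_ (Over (spec A)) ⟶ E) = Over.homMk σ hσ := Over.OverMorphism.ext (by
    show ((toUnit (𝟙_ (Over (spec A)))) ≫ η[E]).left = σ
    rw [toUnit_unique (toUnit (𝟙_ (Over (spec A)))) (𝟙 _), Category.id_comp, EllGrp5.grp_one σ hσ hG]
    exact Category.id_comp σ)
  refine ⟨t, Over.w (sh b), ?_, ?_⟩
  · let T : Over (spec A) := Over.mk (x ≫ specRes A)
    let I : T ⟶ E := Over.homMk ξ.i ξ.isPullback.w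
    have hT : toUnit T ≫ b = toUnit T ≫ (1 : 𝟙_ (Over (spec A)) ⟶ E) := by
      rw [h1]
      refine Over.OverMorphism.ext ?_
      show (toUnit T).left ≫ σ' = (toUnit T).left ≫ σ
      rw [show (toUnit T).left = x ≫ specRes A from
        ((Category.comp_id _).symm.trans (Over.w (toUnit T)))]
      rw [Category.assoc, Category.assoc, h]
    have := hpre I b
    rw [hT, MonObj.comp_one, mul_one] at this
    exact congrArg (fun z : T ⟶ E => z.left) this
  · have := hpre (1 : 𝟙_ (Over (spec A)) ⟶ E) b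
    rw [toUnit_unique (toUnit (𝟙_ (Over (spec A)))) (𝟙 _), Category.id_comp, one_mul, h1] at this
    exact congrArg (fun z : 𝟙_ (Over (spec A)) ⟶ E => z.left) this

end Groth.Agent.PtDefo5
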