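import Groth.Prelude.Def_PtDefo
import Groth.Prelude.Def_Curve
import Groth.Agent.FSchLib.Thickening
import Mathlib.AlgebraicGeometry.Morphisms.SmoothFiber

/-!
# Deformations of smooth schemes are smooth; sections through rational points
-/

set_option autoImplicit false
set_option linter.style.haveILetI false
set_option backward.isDefEq.respectTransparency.types false

universe u

open CategoryTheory CategoryTheory.Limits AlgebraicGeometry
open ArtFun ArtFun.Art

namespace Groth.Agent.PtDefo5

variable {Λ k : Type u} [CommRing Λ] [Field k] [Algebra Λ k] {X : Scheme.{u}} {x : X ⟶ specPt k} {A : Art Λ k}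
  (ξ : ArtFun.DefSch X x A)

theorem isNilpotent_ker_res : IsNilpotent (RingHom.ker (A.res : A →+* k)) := by
  rw [← IsLocalRing.eq_maximalIdeal (RingHom.ker_isMaximal_of_surjective (A.res : A →+* k) A.res_surjective) |>.symm]
  rw [← IsLocalRing.jacobson_eq_maximalIdeal ⊥ bot_ne_top]
  exact IsArtinianRing.isNilpotent_jacobson_bot

theorem isClosedImmersion_specRes : IsClosedImmersion (specRes A) :=
  IsClosedImmersion.spec_of_surjective _ A.res_surjective

theorem surjective_specRes : Surjective (specRes A) := by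
  refine ⟨fun z => ⟨default, ?_⟩⟩
  haveI : Subsingleton (spec A : Scheme.{u}) := inferInstanceAs (Subsingleton (PrimeSpectrum A))
  exact Subsingleton.elim _ _

theorem locallyOfFinitePresentation_f [LocallyOfFiniteType x] : LocallyOfFinitePresentation ξ.f := by
  haveI := isClosedImmersion_specRes (A := A)
  haveI := surjective_specRes (A := A)
  haveI : IsClosedImmersion ξ.i := MorphismProperty.of_isPullback (P := @IsClosedImmersion) ξ.isPullback.flip inferInstance
  haveI : IsLocallyNoetherian (spec A) := inferInstanceAs (IsLocallyNoetherian (Spec (CommRingCat.of A)))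
  have hker : ξ.i.ker = (specRes A).ker.comap ξ.f := by
    conv_lhs => rw [← ξ.isPullback.isoPullback_hom_fst]
    rw [Scheme.Hom.ker_comp_of_isIso]
    exact Scheme.IdealSheafData.ker_fst_of_isClosedImmersion _ _
  haveI := FSchLib.locallyOfFiniteType_of_thickening hker ξ.isPullback.w
  infer_instance

theorem smooth_f [Smooth x] : Smooth ξ.f := by
  haveI := locallyOfFinitePresentation_f ξ
  haveI := ξ.flat
  refine Smooth.of_smooth_fiberToSpecResidueField ξ.f fun y => ?_
  haveI := isClosedImmersion_specRes (A := A)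
  haveI : Subsingleton (spec A : Scheme.{u}) := inferInstanceAs (Subsingleton (PrimeSpectrum A))
  obtain rfl : y = specRes A (IsLocalRing.closedPoint k) := Subsingleton.elim _ _
  let φ := (spec A).descResidueField (Scheme.stalkClosedPointTo (specRes A))
  let ρ : specPt k ⟶ Spec ((spec A).residueField (specRes A (IsLocalRing.closedPoint k))) := Spec.map φ
  have hρ : ρ ≫ (spec A).fromSpecResidueField _ = specRes A :=
    Scheme.descResidueField_stalkClosedPointTo_fromSpecResidueField k (spec A) (specRes A)
  haveI : IsClosedImmersion ρ := by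
    haveI : IsClosedImmersion (ρ ≫ (spec A).fromSpecResidueField _) := by rw [hρ]; infer_instance
    exact IsClosedImmersion.of_comp ρ ((spec A).fromSpecResidueField _)
  haveI : Surjective ρ := ⟨fun z => ⟨default, Subsingleton.elim (α := PrimeSpectrum _) _ _⟩⟩
  haveI : IsIso ρ := isIso_of_isClosedImmersion_of_surjective ρ
  let l : X ⟶ ξ.f.fiber (specRes A (IsLocalRing.closedPoint k)) :=
    pullback.lift ξ.i (x ≫ ρ) (by rw [Category.assoc, hρ]; exact ξ.isPullback.w)
  have hsq : IsPullback l x (ξ.f.fiberToSpecResidueField _) ρ :=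
    IsPullback.of_right (by
      rw [hρ, show l ≫ pullback.fst _ _ = ξ.i from pullback.lift_fst _ _ _]; exact ξ.isPullback)
      (pullback.lift_snd _ _ _) (IsPullback.of_hasPullback _ _)
  haveI : IsIso l := hsq.isIso_fst_of_isIso
  have e : ξ.f.fiberToSpecResidueField (specRes A (IsLocalRing.closedPoint k)) = inv l ≫ x ≫ ρ := by
    rw [IsIso.eq_inv_comp]; exact hsq.w
  rw [e]
  infer_instance

/-- A smooth morphism to an augmented Artinian ring has a section through every rational point. -/
theorem exists_section [Smooth x] (P : specPt k ⟶ X) (hP : P ≫ x = 𝟙 _) :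
    ∃ σ : spec A ⟶ ξ.total, σ ≫ ξ.f = 𝟙 _ ∧ P ≫ ξ.i = specRes A ≫ σ := by
  haveI := smooth_f ξ
  obtain ⟨U, hU, hPU, -⟩ := exists_isAffineOpen_mem_and_subset
    (x := (P ≫ ξ.i) (IsLocalRing.closedPoint k)) (U := ⊤) trivial
  have hrange : Set.range (P ≫ ξ.i) ⊆ Set.range hU.fromSpec := by
    rintro _ ⟨z, rfl⟩
    haveI : Subsingleton (specPt k : Scheme.{u}) := inferInstanceAs (Subsingleton (PrimeSpectrum k))
    rw [hU.range_fromSpec, Subsingleton.elim z (IsLocalRing.closedPoint k)]
    exact hPU
  let ψ : Γ(ξ.total, U) ⟶ CommRingCat.of k := Spec.preimage (IsOpenImmersion.lift hU.fromSpec (P ≫ ξ.i) hrange)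
  let c : CommRingCat.of A ⟶ Γ(ξ.total, U) := Spec.preimage (hU.fromSpec ≫ ξ.f)
  have hc : Spec.map c = hU.fromSpec ≫ ξ.f := Spec.map_preimage _
  have hψ : Spec.map ψ ≫ hU.fromSpec = P ≫ ξ.i := by
    rw [Spec.map_preimage, IsOpenImmersion.lift_fac]
  have hsm : c.hom.Smooth := (HasRingHomProperty.Spec_iff (P := @Smooth)).1 (by rw [hc]; infer_instance)
  have hres : c ≫ ψ = CommRingCat.ofHom A.res.toRingHom := Spec.map_injective (by
    rw [Spec.map_comp, hc, ← Category.assoc, hψ, Category.assoc, ξ.i_f, ← Category.assoc, hP, Category.id_comp])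
  letI : Algebra A Γ(ξ.total, U) := c.hom.toAlgebra
  letI : Algebra A k := (A.res : A →+* k).toAlgebra
  haveI : Algebra.Smooth A Γ(ξ.total, U) := hsm
  let g : Γ(ξ.total, U) →ₐ[A] k := { ψ.hom with commutes' := fun a => congr($(hres) a) }
  let q : A →ₐ[A] k := Algebra.ofId A k
  let τ := Algebra.FormallySmooth.liftOfSurjective g q A.res_surjective isNilpotent_ker_res
  let τ' : Γ(ξ.total, U) ⟶ CommRingCat.of A := CommRingCat.ofHom τ.toRingHom
  have h1 : c ≫ τ' = 𝟙 _ := CommRingCat.hom_ext (RingHom.ext fun a => τ.commutes a)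
  have h2 : τ' ≫ CommRingCat.ofHom A.res.toRingHom = ψ := CommRingCat.hom_ext (RingHom.ext fun b =>
    Algebra.FormallySmooth.liftOfSurjective_apply g q A.res_surjective isNilpotent_ker_res b)
  refine ⟨Spec.map τ' ≫ hU.fromSpec, ?_, ?_⟩
  · rw [Category.assoc, ← hc, ← Spec.map_comp, h1, Spec.map_id]
  · rw [← hψ, ← h2, Spec.map_comp, Category.assoc]

end Groth.Agent.PtDefo5
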